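import Cfsg.Agent.Lib.SteinbergPres.CenterCard
import Cfsg.Agent.Lib.SteinbergPres.StCertE6

/-! The minuscule representation of dimension 27 for type E6 on the roots of small support (generated tables,
checked below). -/

set_option autoImplicit false

namespace CfsgLib.SteinbergPres

open Cfsg.Lie CfsgLib.Twisted

def minusculeRowsE6 : List (ℕ × List (ℕ × ℕ × ℤ)) :=
  [
    (14, [(0, 2, -1), (8, 12, 1), (11, 15, 1), (14, 17, 1), (18, 22, -1), (20, 23, -1)]),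
    (15, [(0, 1, 1), (10, 12, 1), (13, 15, 1), (16, 17, 1), (18, 19, 1), (20, 21, 1)]),
    (24, [(2, 4, 1), (5, 8, -1), (7, 11, -1), (16, 20, 1), (17, 21, 1), (22, 24, -1)]),
    (25, [(3, 4, 1), (5, 6, 1), (7, 9, 1), (18, 20, 1), (19, 21, 1), (22, 23, 1)]),
    (28, [(1, 3, -1), (6, 10, 1), (9, 13, 1), (14, 18, -1), (17, 22, 1), (21, 24, -1)]),
    (29, [(1, 2, 1), (8, 10, 1), (11, 13, 1), (14, 16, 1), (19, 22, 1), (21, 23, 1)]),
    (31, [(2, 5, -1), (4, 8, 1), (9, 14, -1), (13, 18, 1), (15, 19, 1), (23, 25, -1)]),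
    (32, [(2, 3, 1), (6, 8, 1), (9, 11, 1), (16, 18, 1), (17, 19, 1), (23, 24, 1)]),
    (33, [(3, 7, -1), (4, 9, -1), (8, 14, 1), (10, 16, 1), (12, 17, 1), (24, 26, -1)]),
    (34, [(3, 5, 1), (4, 6, 1), (11, 14, 1), (13, 16, 1), (15, 17, 1), (24, 25, 1)]),
    (35, [(5, 7, 1), (6, 9, 1), (8, 11, 1), (10, 13, 1), (12, 15, 1), (25, 26, 1)]),
    (36, [(7, 5, 1), (9, 6, 1), (11, 8, 1), (13, 10, 1), (15, 12, 1), (26, 25, 1)]),
    (37, [(5, 3, 1), (6, 4, 1), (14, 11, 1), (16, 13, 1), (17, 15, 1), (25, 24, 1)]),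
    (38, [(7, 3, -1), (9, 4, -1), (14, 8, 1), (16, 10, 1), (17, 12, 1), (26, 24, -1)]),
    (39, [(3, 2, 1), (8, 6, 1), (11, 9, 1), (18, 16, 1), (19, 17, 1), (24, 23, 1)]),
    (40, [(5, 2, -1), (8, 4, 1), (14, 9, -1), (18, 13, 1), (19, 15, 1), (25, 23, -1)]),
    (42, [(2, 1, 1), (10, 8, 1), (13, 11, 1), (16, 14, 1), (22, 19, 1), (23, 21, 1)]),
    (43, [(3, 1, -1), (10, 6, 1), (13, 9, 1), (18, 14, -1), (22, 17, 1), (24, 21, -1)]),
    (46, [(4, 3, 1), (6, 5, 1), (9, 7, 1), (20, 18, 1), (21, 19, 1), (23, 22, 1)]),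
    (47, [(4, 2, 1), (8, 5, -1), (11, 7, -1), (20, 16, 1), (21, 17, 1), (24, 22, -1)]),
    (56, [(1, 0, 1), (12, 10, 1), (15, 13, 1), (17, 16, 1), (19, 18, 1), (21, 20, 1)]),
    (57, [(2, 0, -1), (12, 8, 1), (15, 11, 1), (17, 14, 1), (22, 18, -1), (23, 20, -1)])
  ]

def minusculeE6 (r : ℕ) : SPerm :=
  spOf 27 (((minusculeRowsE6.find? fun x => Nat.beq x.1 r).map fun x => x.2).getD [])

theorem checkRepE6 : checkRep 27 chevE6 coroE6 minusculeE6 = true := by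
  decide +kernel

theorem weightE6 : weightB chevE6 27 0 minusculeE6 = true := by
  decide +kernel

theorem muE6 : muB chevE6 0 3 [1, 0, 2, 0, 1, 2]
    [[0, 0, 0, 0, 0, 0], [1, 2, 2, 3, 2, 1], [-1, 0, 0, 0, 0, 0], [2, 3, 4, 6, 4, 2], [0, 1, 1, 2, 2, 1], [-2, -1, -2, -2, -1, 0]]
    [4, 3, 5, 6, 4, 2] = true := by
  decide +kernel

theorem cardCenterE6 {A : CfsgLib.Chevalley.Aux} (h : CfsgLib.Chevalley.Full chevE6 A) (K : Type*) [Field K]
    [Fintype K] : Nat.card (Subgroup.center (chevE6.SteinbergGroup K)) = Nat.gcd 3 (Fintype.card K - 1) :=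
  card_center h ctCertE6 stCertE6 checkRepE6 weightE6 muE6

end CfsgLib.SteinbergPres
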