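import Cfsg.Agent.Lib.SteinbergPres.CenterCard
import Cfsg.Agent.Lib.SteinbergPres.StCertE7

/-! The minuscule representation of dimension 56 for type E7 on the roots of small support (generated tables,
checked below). -/

set_option autoImplicit false

namespace CfsgLib.SteinbergPres

open Cfsg.Lie CfsgLib.Twisted

def minusculeRowsE7 : List (ℕ × List (ℕ × ℕ × ℤ)) :=
  [
    (31, [(4, 8, 1), (5, 9, 1), (10, 13, -1), (12, 16, -1), (15, 20, -1), (18, 24, -1), (31, 37, 1),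
      (35, 40, 1), (39, 43, 1), (42, 45, 1), (46, 50, -1), (48, 51, -1)]),
    (32, [(6, 8, 1), (7, 9, 1), (10, 11, 1), (12, 14, 1), (15, 17, 1), (18, 21, 1), (34, 37, 1), (38, 40, 1),
      (41, 43, 1), (44, 45, 1), (46, 47, 1), (48, 49, 1)]),
    (46, [(3, 5, 1), (6, 10, -1), (8, 11, -1), (16, 22, 1), (20, 25, 1), (24, 29, 1), (26, 31, -1),
      (30, 35, -1), (33, 39, -1), (44, 48, 1), (45, 49, 1), (50, 52, -1)]),
    (47, [(4, 5, 1), (6, 7, 1), (8, 9, 1), (19, 22, 1), (23, 25, 1), (26, 28, 1), (27, 29, 1), (30, 32, 1),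
      (33, 36, 1), (46, 48, 1), (47, 49, 1), (50, 51, 1)]),
    (51, [(3, 6, 1), (5, 10, -1), (9, 13, 1), (14, 19, -1), (17, 23, -1), (21, 27, -1), (28, 34, 1),
      (32, 38, 1), (36, 41, 1), (42, 46, -1), (45, 50, 1), (49, 52, -1)]),
    (52, [(4, 6, 1), (5, 7, 1), (11, 13, 1), (14, 16, 1), (17, 20, 1), (21, 24, 1), (31, 34, 1), (35, 38, 1),
      (39, 41, 1), (42, 44, 1), (47, 50, 1), (49, 51, 1)]),
    (55, [(2, 4, 1), (7, 12, -1), (9, 14, -1), (13, 19, 1), (20, 26, -1), (24, 30, -1), (25, 31, 1),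
      (29, 35, 1), (36, 42, -1), (41, 46, 1), (43, 47, 1), (51, 53, -1)]),
    (56, [(3, 4, 1), (7, 10, 1), (9, 11, 1), (16, 19, 1), (20, 23, 1), (24, 27, 1), (28, 31, 1), (32, 35, 1),
      (36, 39, 1), (44, 46, 1), (45, 47, 1), (51, 52, 1)]),
    (58, [(1, 3, 1), (10, 15, -1), (11, 17, -1), (13, 20, -1), (19, 26, 1), (22, 28, 1), (27, 33, -1),
      (29, 36, -1), (35, 42, 1), (38, 44, 1), (40, 45, 1), (52, 54, -1)]),
    (59, [(2, 3, 1), (10, 12, 1), (11, 14, 1), (13, 16, 1), (23, 26, 1), (25, 28, 1), (27, 30, 1),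
      (29, 32, 1), (39, 42, 1), (41, 44, 1), (43, 45, 1), (52, 53, 1)]),
    (60, [(0, 2, 1), (12, 18, -1), (14, 21, -1), (16, 24, -1), (19, 27, -1), (22, 29, -1), (26, 33, 1),
      (28, 36, 1), (31, 39, 1), (34, 41, 1), (37, 43, 1), (53, 55, -1)]),
    (61, [(1, 2, 1), (12, 15, 1), (14, 17, 1), (16, 20, 1), (19, 23, 1), (22, 25, 1), (30, 33, 1),
      (32, 36, 1), (35, 39, 1), (38, 41, 1), (40, 43, 1), (53, 54, 1)]),
    (62, [(0, 1, 1), (15, 18, 1), (17, 21, 1), (20, 24, 1), (23, 27, 1), (25, 29, 1), (26, 30, 1),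
      (28, 32, 1), (31, 35, 1), (34, 38, 1), (37, 40, 1), (54, 55, 1)]),
    (63, [(1, 0, 1), (18, 15, 1), (21, 17, 1), (24, 20, 1), (27, 23, 1), (29, 25, 1), (30, 26, 1),
      (32, 28, 1), (35, 31, 1), (38, 34, 1), (40, 37, 1), (55, 54, 1)]),
    (64, [(2, 1, 1), (15, 12, 1), (17, 14, 1), (20, 16, 1), (23, 19, 1), (25, 22, 1), (33, 30, 1),
      (36, 32, 1), (39, 35, 1), (41, 38, 1), (43, 40, 1), (54, 53, 1)]),
    (65, [(2, 0, 1), (18, 12, -1), (21, 14, -1), (24, 16, -1), (27, 19, -1), (29, 22, -1), (33, 26, 1),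
      (36, 28, 1), (39, 31, 1), (41, 34, 1), (43, 37, 1), (55, 53, -1)]),
    (66, [(3, 2, 1), (12, 10, 1), (14, 11, 1), (16, 13, 1), (26, 23, 1), (28, 25, 1), (30, 27, 1),
      (32, 29, 1), (42, 39, 1), (44, 41, 1), (45, 43, 1), (53, 52, 1)]),
    (67, [(3, 1, 1), (15, 10, -1), (17, 11, -1), (20, 13, -1), (26, 19, 1), (28, 22, 1), (33, 27, -1),
      (36, 29, -1), (42, 35, 1), (44, 38, 1), (45, 40, 1), (54, 52, -1)]),
    (69, [(4, 3, 1), (10, 7, 1), (11, 9, 1), (19, 16, 1), (23, 20, 1), (27, 24, 1), (31, 28, 1), (35, 32, 1),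
      (39, 36, 1), (46, 44, 1), (47, 45, 1), (52, 51, 1)]),
    (70, [(4, 2, 1), (12, 7, -1), (14, 9, -1), (19, 13, 1), (26, 20, -1), (30, 24, -1), (31, 25, 1),
      (35, 29, 1), (42, 36, -1), (46, 41, 1), (47, 43, 1), (53, 51, -1)]),
    (73, [(6, 4, 1), (7, 5, 1), (13, 11, 1), (16, 14, 1), (20, 17, 1), (24, 21, 1), (34, 31, 1), (38, 35, 1),
      (41, 39, 1), (44, 42, 1), (50, 47, 1), (51, 49, 1)]),
    (74, [(6, 3, 1), (10, 5, -1), (13, 9, 1), (19, 14, -1), (23, 17, -1), (27, 21, -1), (34, 28, 1),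
      (38, 32, 1), (41, 36, 1), (46, 42, -1), (50, 45, 1), (52, 49, -1)]),
    (78, [(5, 4, 1), (7, 6, 1), (9, 8, 1), (22, 19, 1), (25, 23, 1), (28, 26, 1), (29, 27, 1), (32, 30, 1),
      (36, 33, 1), (48, 46, 1), (49, 47, 1), (51, 50, 1)]),
    (79, [(5, 3, 1), (10, 6, -1), (11, 8, -1), (22, 16, 1), (25, 20, 1), (29, 24, 1), (31, 26, -1),
      (35, 30, -1), (39, 33, -1), (48, 44, 1), (49, 45, 1), (52, 50, -1)]),
    (93, [(8, 6, 1), (9, 7, 1), (11, 10, 1), (14, 12, 1), (17, 15, 1), (21, 18, 1), (37, 34, 1), (40, 38, 1),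
      (43, 41, 1), (45, 44, 1), (47, 46, 1), (49, 48, 1)]),
    (94, [(8, 4, 1), (9, 5, 1), (13, 10, -1), (16, 12, -1), (20, 15, -1), (24, 18, -1), (37, 31, 1),
      (40, 35, 1), (43, 39, 1), (45, 42, 1), (50, 46, -1), (51, 48, -1)])
  ]

def minusculeE7 (r : ℕ) : SPerm :=
  spOf 56 (((minusculeRowsE7.find? fun x => Nat.beq x.1 r).map fun x => x.2).getD [])

theorem checkRepE7 : checkRep 56 chevE7 coroE7 minusculeE7 = true := by
  decide +kernel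

theorem weightE7 : weightB chevE7 56 6 minusculeE7 = true := by
  decide +kernel

theorem muE7 : muB chevE7 6 2 [0, 1, 0, 0, 1, 0, 1]
    [[2, 2, 3, 4, 3, 2, 1], [1, 2, 2, 3, 2, 1, 0], [3, 4, 6, 8, 6, 4, 2], [4, 6, 8, 12, 9, 6, 3], [2, 3, 4, 6, 5, 3, 1], [2, 3, 4, 6, 5, 4, 2], [0, 0, 0, 0, 0, 0, 0]]
    [2, 3, 4, 6, 5, 4, 3] = true := by
  decide +kernel

theorem cardCenterE7 {A : CfsgLib.Chevalley.Aux} (h : CfsgLib.Chevalley.Full chevE7 A) (K : Type*) [Field K]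
    [Fintype K] : Nat.card (Subgroup.center (chevE7.SteinbergGroup K)) = Nat.gcd 2 (Fintype.card K - 1) :=
  card_center h ctCertE7 stCertE7 checkRepE7 weightE7 muE7

end CfsgLib.SteinbergPres
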